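import Cfsg.Agent.Lib.Spor.HSType.Cert.YB0.Part0
import Cfsg.Agent.Lib.Spor.HSType.Cert.YB0.Part1
import Cfsg.Agent.Lib.Spor.HSType.Cert.YB0.Part2
import Cfsg.Agent.Lib.Spor.HSType.Cert.YB0.Part3

/-!
Two equal conjugations, number 0: the assembled checks.
-/

set_option autoImplicit false

namespace CfsgLib.Spor.HSType.Cert.YB0

open CfsgLib.Spor.TC

theorem steps_ok : cert.SStepsOK 0 8556 :=
  (((steps0.append _ steps2500).append _ steps5000).append _ steps7500)

set_option maxRecDepth 100000 in
theorem trace : cert.sTraceOK 8556 target 0x42d8042d600039042d0042cc00033042c2000570005500053000510004f0004d0004b00049000470004500043000410003f0003d0003b00039000370003500033000310002f0002d0002b00029000270002500023000210001f0001d0001b00019000170001500013000110000f0000d0000b0000900007000050000300001 = true := by decide +kernel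

end CfsgLib.Spor.HSType.Cert.YB0
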